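import Mathlib
import Cfsg.Agent.Lib.DefectOne.SelfCent
import Cfsg.Agent.Lib.DefectOne.PM2Final
import Cfsg.Agent.Lib.Blocks.TI9G
import Cfsg.Agent.Lib.Char.BrauerSCNum
import Cfsg.Agent.Lib.Char.PRegular
import Cfsg.Agent.Lib.Basic.SmallSimple
import Cfsg.Agent.Lib.Basic.SylowUtil

/-!
# Simple groups of order 7920: basic tools
-/

set_option autoImplicit false

namespace Cfsg.Agent.Lib.M11Ord

open Cfsg Subgroup Finset
open Cfsg.Agent.Lib.Blocks.Principal (trivChar coe_trivChar)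
open scoped ComplexConjugate

universe u

variable {G : Type u} [Group G] [Finite G]

/-- The degree of an irreducible character. -/
noncomputable def dg (χ : IrrCharacter G) : ℕ := charDegree (χ : G → ℂ)

lemma isChar (χ : IrrCharacter G) : IsCharacter G (χ : G → ℂ) :=
  Cfsg.Agent.Lib.Char.Basic.isCharacter_of_isIrrCharacter χ.2

lemma dg_cast (χ : IrrCharacter G) : (χ : G → ℂ) 1 = (dg χ : ℂ) :=
  (Cfsg.Agent.Lib.Char.Values.IsCharacter.charDegree_cast (isChar χ)).symm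

lemma dg_pos (χ : IrrCharacter G) : 0 < dg χ := by
  obtain ⟨D, hD0, hD⟩ := Cfsg.Agent.Lib.Char.Ortho.irr_degree_pos χ.2
  have h1 := dg_cast χ
  rw [hD] at h1
  have h2 : D = dg χ := by exact_mod_cast h1
  omega

lemma dg_dvd (χ : IrrCharacter G) : dg χ ∣ Nat.card G := by
  haveI : Fintype G := Fintype.ofFinite G
  exact Cfsg.Agent.Lib.Char.BrauerSCNum.degree_dvd χ (dg χ) (dg_cast χ)

lemma sum_dg_sq : ∑ χ : IrrCharacter G, dg χ ^ 2 = Nat.card G := by
  haveI : Fintype G := Fintype.ofFinite G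
  have h1 := Cfsg.Agent.Lib.Char.CompleteCor.sum_sq_degrees (G := G)
  have h2 : ((∑ χ : IrrCharacter G, dg χ ^ 2 : ℕ) : ℂ) = ((Nat.card G : ℕ) : ℂ) := by
    push_cast
    rw [← h1]
    refine Finset.sum_congr rfl fun χ _ => ?_
    rw [dg_cast]
  exact_mod_cast h2

lemma dg_sq_le (χ : IrrCharacter G) : dg χ ^ 2 ≤ Nat.card G := by
  rw [← sum_dg_sq (G := G)]
  exact Finset.single_le_sum (f := fun χ : IrrCharacter G => dg χ ^ 2) (fun _ _ => Nat.zero_le _) (Finset.mem_univ χ)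

/-- **Multiplicities on a product.** -/
theorem mult_of_vanish {χ : G → ℂ} (hχ : IsCharacter G χ) {A S : Subgroup G} [Fintype A] [Fintype S]
    (hcomm : ∀ a ∈ A, ∀ s ∈ S, a * s = s * a)
    (hvan : ∀ a ∈ A, ∀ s ∈ S, s ≠ 1 → χ (a * s) = 0) (lam : A →* ℂˣ) :
    ∃ n : ℕ, ∑ a : A, χ a * conj ((lam a : ℂˣ) : ℂ) = (Nat.card A : ℂ) * (Nat.card S : ℂ) * n := by
  classical
  have hcm : ∀ (a : A) (s : S), Commute (A.subtype a) (S.subtype s) := fun a s => hcomm a a.2 s s.2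
  let φ : A × S →* G := MonoidHom.noncommCoprod A.subtype S.subtype hcm
  let Λ : A × S →* ℂˣ := lam.comp (MonoidHom.fst A S)
  have hc := Cfsg.Agent.Lib.Char.Basic.isCharacter_comp_hom hχ φ
  have hsgn : IsCharacter (A × S) (fun k => ((Λ k : ℂˣ) : ℂ)) := by
    obtain ⟨n, ρ, -, h⟩ := Cfsg.Agent.Lib.Char.LinearChars.isIrr_of_hom Λ
    exact ⟨n, ρ, h⟩
  obtain ⟨u, hu⟩ := Cfsg.Agent.Lib.Char.Ortho.exists_nat_classInner_of_isCharacter hc hsgn
  refine ⟨u, ?_⟩
  rw [Cfsg.Agent.Lib.Char.Induced.classInner_def] at hu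
  have hcard : (Nat.card (A × S) : ℂ) = (Nat.card A : ℂ) * (Nat.card S : ℂ) := by
    rw [Nat.card_prod]
    push_cast
    ring
  have hne : (Nat.card (A × S) : ℂ) ≠ 0 := by exact_mod_cast Nat.card_pos.ne'
  rw [← hcard, ← hu, ← mul_assoc, mul_inv_cancel₀ hne, one_mul]
  rw [Fintype.sum_prod_type]
  refine Finset.sum_congr rfl fun a _ => ?_
  rw [Finset.sum_eq_single (1 : S)]
  · simp [φ, Λ, Function.comp, MonoidHom.noncommCoprod_apply]
  · intro s _ hs
    have h1 : χ (φ (a, s)) = 0 := by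
      simp only [φ, MonoidHom.noncommCoprod_apply, Subgroup.subtype_apply]
      exact hvan a a.2 s s.2 (fun h => hs (Subtype.ext h))
    simp [h1]
  · intro h
    exact absurd (Finset.mem_univ _) h

end Cfsg.Agent.Lib.M11Ord
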