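import Mathlib
import Cfsg.Agent.Lib.M11Ord.Basic

/-!
# Simple groups of order 7920: the Sylow 11-subgroups
-/

set_option autoImplicit false
set_option linter.unusedSectionVars false

namespace Cfsg.Agent.Lib.M11Ord

open Cfsg Subgroup Finset
open Cfsg.Agent.Lib.Blocks.Principal (trivChar coe_trivChar)
open Cfsg.Agent.Lib.DefectOne
open scoped ComplexConjugate

universe u

variable {G : Type u} [Group G] [Finite G]

lemma exists_sylow_zpowers {p : ℕ} [hp : Fact p.Prime] (hsq : ¬ p ^ 2 ∣ Nat.card G) {x : G} (hx : orderOf x = p) :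
    ∃ P : Sylow p G, zpowers x = (P : Subgroup G) := by
  have h1 : IsPGroup p (zpowers x) := by
    refine IsPGroup.of_card (n := 1) ?_
    rw [Nat.card_zpowers, hx, pow_one]
  obtain ⟨Q, hQ⟩ := h1.exists_le_sylow
  refine ⟨Q, ?_⟩
  obtain ⟨k, hk⟩ := IsPGroup.iff_card.mp Q.isPGroup'
  apply Subgroup.eq_of_le_of_card_ge hQ
  rw [Nat.card_zpowers, hx, hk]
  have h2 : p ^ k ∣ Nat.card G := by
    rw [← hk]
    exact Subgroup.card_subgroup_dvd_card _
  have h3 : k ≤ 1 := by
    by_contra h4
    apply hsq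
    exact (pow_dvd_pow p (by omega)).trans h2
  calc p ^ k ≤ p ^ 1 := Nat.pow_le_pow_right hp.out.pos h3
    _ = p := pow_one p

lemma card_sylow_mul {p : ℕ} [Fact p.Prime] (P : Sylow p G) :
    Nat.card (Sylow p G) * Nat.card (normalizer ((P : Subgroup G) : Set G)) = Nat.card G := by
  rw [P.card_eq_index_normalizer, mul_comm]
  exact Subgroup.card_mul_index _

lemma sylow_not_normal [IsSimpleGroup G] {p : ℕ} [Fact p.Prime] (P : Sylow p G) (h1 : 1 < Nat.card (P : Subgroup G))
    (h2 : Nat.card (P : Subgroup G) < Nat.card G) : ¬ (P : Subgroup G).Normal := by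
  intro hn
  rcases hn.eq_bot_or_eq_top with h | h
  · rw [h, Subgroup.card_bot] at h1
    omega
  · rw [h, Subgroup.card_top] at h2
    omega

/-- A `p`-element in the normalizer of a Sylow subgroup lies in it. -/
lemma mem_sylow_of_normalizes {p : ℕ} [Fact p.Prime] (Q : Sylow p G) {x : G} (hx : orderOf x = p)
    (h : x ∈ normalizer ((Q : Subgroup G) : Set G)) : x ∈ (Q : Subgroup G) := by
  have h1 : IsPGroup p (zpowers x) := by
    refine IsPGroup.of_card (n := 1) ?_
    rw [Nat.card_zpowers, hx, pow_one]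
  have h2 : zpowers x ⊓ normalizer ((Q : Subgroup G) : Set G) = zpowers x ⊓ (Q : Subgroup G) :=
    h1.inf_normalizer_sylow Q
  have h3 : x ∈ zpowers x ⊓ normalizer ((Q : Subgroup G) : Set G) := ⟨mem_zpowers x, h⟩
  rw [h2] at h3
  exact h3.2

/-- If the Sylow subgroup `⟨x⟩` of prime order has `p + 1` conjugates, then `x` is self-centralizing. -/
theorem self_cen_of_card_sylow [IsSimpleGroup G] {p : ℕ} [hp : Fact p.Prime] {x : G} (hx : orderOf x = p)
    (P : Sylow p G) (hP : zpowers x = (P : Subgroup G)) (hn : Nat.card (Sylow p G) = p + 1)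
    (hnn : ¬ (P : Subgroup G).Normal) {y : G} (hy : y * x = x * y) : y ∈ zpowers x := by
  classical
  haveI : Fintype (Sylow p G) := Fintype.ofFinite _
  haveI : Fintype (zpowers x) := Fintype.ofFinite _
  have hcardx : Nat.card (zpowers x) = p := by rw [Nat.card_zpowers, hx]
  -- a nontrivial power of `x` fixes only `P`
  have hfix : ∀ Q : Sylow p G, ∀ a : G, a ∈ zpowers x → a ≠ 1 → a • Q = Q → Q = P := by
    intro Q a ha ha1 hQ
    have h1 : a ∈ normalizer ((Q : Subgroup G) : Set G) := Sylow.smul_eq_iff_mem_normalizer.1 hQ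
    have hoa : orderOf a = p := by
      have h2 := orderOf_dvd_natCard (G := zpowers x) ⟨a, ha⟩
      rw [hcardx, Subgroup.orderOf_mk] at h2
      rcases (Nat.dvd_prime hp.out).1 h2 with h3 | h3
      · exact absurd (orderOf_eq_one_iff.1 h3) ha1
      · exact h3
    have h2 := mem_sylow_of_normalizes Q hoa h1
    have hzz : zpowers a = zpowers x := by
      apply Subgroup.eq_of_le_of_card_ge
      · rwa [Subgroup.zpowers_le]
      · rw [hcardx, Nat.card_zpowers, hoa]
    have h3 : (P : Subgroup G) ≤ Q := by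
      rw [← hP, ← hzz, Subgroup.zpowers_le]
      exact h2
    exact Sylow.ext (P.is_maximal' Q.isPGroup' h3)
  have hxP : ∀ a ∈ zpowers x, a • P = P := by
    intro a ha
    exact Sylow.smul_eq_iff_mem_normalizer.2 (le_normalizer (H := (P : Subgroup G)) (by rw [← hP]; exact ha))
  -- another Sylow subgroup
  have hne : ∃ Q₀ : Sylow p G, Q₀ ≠ P := by
    by_contra hall
    push Not at hall
    have h1 : Nat.card (Sylow p G) = 1 := by
      rw [Nat.card_eq_one_iff_unique]
      exact ⟨⟨fun a b => by rw [hall a, hall b]⟩, ⟨P⟩⟩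
    have := hp.out.pos
    omega
  obtain ⟨Q₀, hQ₀⟩ := hne
  -- the orbit map
  let F : zpowers x → {Q : Sylow p G // Q ≠ P} := fun a => ⟨(a : G) • Q₀, fun h => by
    apply hQ₀
    have h1 := hxP (a : G)⁻¹ ((zpowers x).inv_mem a.2)
    rw [← h, inv_smul_smul] at h1
    exact h1.trans h⟩
  have hFi : Function.Injective F := by
    intro a b hab
    have h1 : (a : G) • Q₀ = (b : G) • Q₀ := congrArg Subtype.val hab
    have h2 : ((b : G)⁻¹ * a) • Q₀ = Q₀ := by
      rw [mul_smul, h1, inv_smul_smul]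
    by_contra hne
    apply hQ₀
    refine hfix Q₀ _ ((zpowers x).mul_mem ((zpowers x).inv_mem b.2) a.2) ?_ h2
    intro h3
    apply hne
    apply Subtype.ext
    exact (inv_mul_eq_one.1 h3).symm
  have hcardQ : Nat.card {Q : Sylow p G // Q ≠ P} = p := by
    rw [Nat.card_eq_fintype_card, Fintype.card_subtype_compl, Fintype.card_subtype_eq, ← Nat.card_eq_fintype_card, hn]
    simp
  have hFb : Function.Bijective F := by
    apply Function.Injective.bijective_of_nat_card_le hFi
    rw [hcardQ, hcardx]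
  -- `y` fixes `P`
  have hyP : y • P = P := by
    refine Sylow.smul_eq_iff_mem_normalizer.2 ?_
    change y ∈ normalizer ((P : Subgroup G) : Set G)
    rw [← hP, Subgroup.mem_normalizer_iff]
    intro h
    have hyx : ∀ n : ℤ, y * x ^ n * y⁻¹ = x ^ n := by
      intro n
      have h1 : Commute y (x ^ n) := Commute.zpow_right hy n
      rw [h1.eq, mul_inv_cancel_right]
    have hyx' : ∀ n : ℤ, y⁻¹ * x ^ n * y = x ^ n := by
      intro n
      have h1 : Commute y (x ^ n) := Commute.zpow_right hy n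
      rw [mul_assoc, h1.symm.eq, inv_mul_cancel_left]
    constructor
    · rintro h2
      obtain ⟨n, rfl⟩ := Subgroup.mem_zpowers_iff.1 h2
      rw [hyx]
      exact Subgroup.mem_zpowers_iff.2 ⟨n, rfl⟩
    · intro h2
      have h3 : h = y⁻¹ * (y * h * y⁻¹) * y := by group
      rw [h3]
      obtain ⟨n, hn⟩ := Subgroup.mem_zpowers_iff.1 h2
      rw [← hn, hyx']
      exact Subgroup.mem_zpowers_iff.2 ⟨n, rfl⟩
  have hyQ : y • Q₀ ≠ P := by
    intro h
    apply hQ₀
    rw [← inv_smul_smul y Q₀, h]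
    have : y⁻¹ • P = P := by
      conv_lhs => rw [← hyP]
      rw [inv_smul_smul]
    exact this
  obtain ⟨a, ha⟩ := hFb.2 ⟨y • Q₀, hyQ⟩
  have ha1 : (a : G) • Q₀ = y • Q₀ := congrArg Subtype.val ha
  -- `w` acts trivially
  set w : G := (a : G)⁻¹ * y with hw
  have hwx : w * x = x * w := by
    have h1 : (a : G) * x = x * a := by
      obtain ⟨n, hn⟩ := Subgroup.mem_zpowers_iff.1 a.2
      rw [← hn]
      exact (Commute.zpow_self x n)
    have h2 : (a : G)⁻¹ * x = x * (a : G)⁻¹ := by
      calc (a : G)⁻¹ * x = (a : G)⁻¹ * (x * a) * (a : G)⁻¹ := by group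
        _ = (a : G)⁻¹ * (a * x) * (a : G)⁻¹ := by rw [h1]
        _ = _ := by group
    rw [hw, mul_assoc, hy, ← mul_assoc, h2, mul_assoc]
  have hwQ₀ : w • Q₀ = Q₀ := by
    rw [hw, mul_smul, ← ha1, inv_smul_smul]
  have hwP : w • P = P := by
    rw [hw, mul_smul, hyP, hxP _ ((zpowers x).inv_mem a.2)]
  have hwall : ∀ Q : Sylow p G, w • Q = Q := by
    intro Q
    by_cases hQ : Q = P
    · rw [hQ, hwP]
    · obtain ⟨b, hb⟩ := hFb.2 ⟨Q, hQ⟩
      have hb1 : (b : G) • Q₀ = Q := congrArg Subtype.val hb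
      have hbw : w * b = b * w := by
        obtain ⟨n, hn⟩ := Subgroup.mem_zpowers_iff.1 b.2
        rw [← hn]
        exact (Commute.zpow_right hwx n)
      rw [← hb1, ← mul_smul, hbw, mul_smul, hwQ₀]
  have hker : w ∈ (MulAction.toPermHom G (Sylow p G)).ker := by
    rw [MonoidHom.mem_ker]
    ext1 Q
    exact hwall Q
  have hw1 : w = 1 := by
    rcases (inferInstance : (MulAction.toPermHom G (Sylow p G)).ker.Normal).eq_bot_or_eq_top with h | h
    · rw [h] at hker
      exact hker
    · exfalso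
      apply hnn
      have htop : normalizer ((P : Subgroup G) : Set G) = ⊤ := by
        rw [eq_top_iff]
        intro g _
        have h1 : g ∈ (MulAction.toPermHom G (Sylow p G)).ker := by rw [h]; trivial
        rw [MonoidHom.mem_ker] at h1
        refine Sylow.smul_eq_iff_mem_normalizer.1 ?_
        have h2 := congrArg (fun f : Equiv.Perm (Sylow p G) => f P) h1
        exact h2
      exact Subgroup.normalizer_eq_top_iff.1 htop
  have hy1 : y = a := by
    rw [hw, inv_mul_eq_one] at hw1
    exact hw1.symm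
  rw [hy1]
  exact a.2

section Order

variable [IsSimpleGroup G]

set_option maxRecDepth 100000 in
lemma numeric45 : ∀ d ∈ Finset.range 89, ∀ D ∈ Finset.range 89, d ∣ 7920 → D ∣ 7920 → d ≠ 1 → 0 < D →
    ((d % 11 = 1 ∧ D = 1 + d) ∨ (d % 11 = 10 ∧ D + 1 = d)) → D = 9 := by
  decide

lemma card_two_part {K : Type*} [Group K] [Finite K] (S : Sylow 2 K) {j : ℕ} (hK : Nat.card K = 11 * 2 ^ j) :
    Nat.card (S : Subgroup K) = 2 ^ j := by
  obtain ⟨k, hk⟩ := IsPGroup.iff_card.mp S.isPGroup'
  have h1 := S.not_dvd_index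
  have h2 := Subgroup.card_mul_index (S : Subgroup K)
  rw [hk, hK] at h2
  rcases lt_trichotomy k j with h | h | h
  · exfalso
    obtain ⟨i, rfl⟩ : ∃ i, j = k + (i + 1) := ⟨j - k - 1, by omega⟩
    rw [pow_add, pow_succ] at h2
    have h3 : (S : Subgroup K).index = 11 * (2 ^ i * 2) := by
      apply Nat.eq_of_mul_eq_mul_left (pow_pos (by norm_num : 0 < 2) k)
      rw [h2]
      ring
    apply h1
    rw [h3]
    exact ⟨11 * 2 ^ i, by ring⟩
  · rw [hk, h]
  · exfalso
    obtain ⟨i, rfl⟩ : ∃ i, k = j + (i + 1) := ⟨k - j - 1, by omega⟩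
    rw [pow_add, pow_succ] at h2
    have h3 : 2 ^ i * 2 * (S : Subgroup K).index = 11 := by
      apply Nat.eq_of_mul_eq_mul_left (pow_pos (by norm_num : 0 < 2) j)
      rw [← mul_assoc, h2]
      ring
    have h4 : 2 ∣ 11 := ⟨2 ^ i * (S : Subgroup K).index, by rw [← h3]; ring⟩
    omega

theorem dg_triv : dg (trivChar G) = 1 := by
  have h1 := dg_cast (trivChar G)
  simp only [coe_trivChar] at h1
  exact_mod_cast h1.symm

theorem noncomm_of_card (hG : Nat.card G = 7920) : ∃ u v : G, u * v ≠ v * u := by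
  by_contra hno
  push Not at hno
  haveI hp11 : Fact (Nat.Prime 11) := ⟨by norm_num⟩
  obtain ⟨x, hx⟩ := exists_prime_orderOf_dvd_card' (G := G) 11 (by rw [hG]; norm_num)
  have hn : (zpowers x).Normal := by
    refine ⟨fun n hn g => ?_⟩
    rw [hno g n, mul_assoc, mul_inv_cancel, mul_one]
    exact hn
  rcases hn.eq_bot_or_eq_top with h | h
  · have := Nat.card_zpowers x
    rw [h, Subgroup.card_bot, hx] at this
    omega
  · have := Nat.card_zpowers x
    rw [h, Subgroup.card_top, hx, hG] at this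
    omega

theorem not_card_45 (hG : Nat.card G = 7920) {x : G} (hx : orderOf x = 11) (P : Sylow 11 G)
    (hP : zpowers x = (P : Subgroup G)) (hn : Nat.card (Sylow 11 G) = 45) : False := by
  classical
  haveI : Fintype G := Fintype.ofFinite G
  haveI hp11 : Fact (Nat.Prime 11) := ⟨by norm_num⟩
  have hcP : Nat.card (P : Subgroup G) = 11 := by rw [← hP, Nat.card_zpowers, hx]
  have hnn := sylow_not_normal P (by omega) (by omega)
  have hN : Nat.card (normalizer ((P : Subgroup G) : Set G)) = 176 := by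
    have h1 := card_sylow_mul P
    rw [hn, hG] at h1
    omega
  set C := centralizer ((zpowers x : Subgroup G) : Set G) with hC
  have hCN : C ≤ normalizer ((zpowers x : Subgroup G) : Set G) := Subgroup.centralizer_le_normalizer _
  have hxC : x ∈ C := by
    rw [hC, Subgroup.mem_centralizer_iff]
    intro h hh
    obtain ⟨k, rfl⟩ := Subgroup.mem_zpowers_iff.1 hh
    exact (Commute.zpow_self x k).eq
  have hCc : ∀ y ∈ C, y * x = x * y := fun y hy =>
    ((Subgroup.mem_centralizer_iff.1 hy) x (mem_zpowers x)).symm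
  -- the order of `C`
  have hdvd : Nat.card C ∣ 176 := by
    rw [← hN, ← hP]
    exact Subgroup.card_dvd_of_le hCN
  have h11 : 11 ∣ Nat.card C := by
    have h1 : Nat.card (zpowers x) ∣ Nat.card C := Subgroup.card_dvd_of_le (by
      rw [Subgroup.zpowers_le]; exact hxC)
    rwa [Nat.card_zpowers, hx] at h1
  obtain ⟨w, hw⟩ := h11
  have hw16 : w ∣ 2 ^ 4 := by
    rw [hw] at hdvd
    have : 11 * w ∣ 11 * 2 ^ 4 := by simpa using hdvd
    exact Nat.dvd_of_mul_dvd_mul_left (by norm_num) this
  obtain ⟨j, -, rfl⟩ := (Nat.dvd_prime_pow Nat.prime_two).1 hw16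
  -- the complement
  obtain ⟨S⟩ : Nonempty (Sylow 2 C) := inferInstance
  have hS := card_two_part S hw
  set H : Subgroup G := (S : Subgroup C).map C.subtype with hH
  have hHC : H ≤ C := by
    rintro _ ⟨a, -, rfl⟩
    exact a.2
  have hcH : Nat.card H = 2 ^ j := by
    rw [hH, ← hS]
    exact Nat.card_congr (Subgroup.equivMapOfInjective _ _ C.subtype_injective).symm.toEquiv
  have hcop : ¬ 11 ∣ Nat.card H := by
    rw [hcH]
    intro h
    have := (Nat.Prime.dvd_of_dvd_pow (by norm_num) h)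
    omega
  let x' : C := ⟨x, hxC⟩
  have hox' : orderOf x' = 11 := by rw [Subgroup.orderOf_mk, hx]
  have hcompl : IsComplement' (zpowers x') (S : Subgroup C) := by
    apply Subgroup.isComplement'_of_coprime
    · rw [Nat.card_zpowers, hox', hS, hw]
    · rw [Nat.card_zpowers, hox', hS]
      exact Nat.Coprime.pow_right _ (by norm_num)
  have hL : LocalData 11 x H := by
    refine ⟨hx, by rw [hG]; norm_num, fun y hy => hCc y (hHC hy), hcop, ?_⟩
    intro c hc
    have hcC : c ∈ C := by
      rw [hC, Subgroup.mem_centralizer_iff]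
      intro h hh
      obtain ⟨k, rfl⟩ := Subgroup.mem_zpowers_iff.1 hh
      exact (Commute.zpow_right hc k).symm.eq
    obtain ⟨⟨a, b⟩, hab⟩ := hcompl.2 ⟨c, hcC⟩
    have hab' : c = (a : C) * (b : C) := (congrArg Subtype.val hab).symm
    obtain ⟨k, hk⟩ : ∃ k : ℕ, x' ^ k = (a : C) := by
      exact (mem_powers_iff_mem_zpowers.2 a.2)
    refine ⟨k, (b : C), ⟨b, b.2, rfl⟩, ?_⟩
    rw [hab', ← hk]
    rfl
  letI : Fintype H := Fintype.ofFinite _
  obtain ⟨M, hM⟩ := Cfsg.Agent.Lib.Blocks.ClassIndep.exists_modular 11 (by norm_num)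
  have hζ : IsPrimitiveRoot (Complex.exp (2 * Real.pi * Complex.I / (11 : ℕ))) 11 :=
    Complex.isPrimitiveRoot_exp 11 (by norm_num)
  obtain ⟨e, t, X, Y, δ, ε, b, hT⟩ := exists_pTable hL hM P hP hζ
  have hidx := hT.idx
  have he1 : e ∣ 176 := by
    rw [← hidx, ← hN, ← hP]
    exact Subgroup.relIndex_dvd_card _ _
  have he2 : e ∣ 10 := ⟨t, by simpa using hT.het⟩
  have he3 : e ∣ 2 := by
    have := Nat.dvd_gcd he1 he2
    simpa using this
  have he : e = 2 := by
    rcases (Nat.dvd_prime Nat.prime_two).1 he3 with h | h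
    · exfalso
      rw [h] at hidx
      have hle := Subgroup.relIndex_eq_one.mp hidx
      rw [hP] at hle
      have := Cfsg.Agent.Lib.Basic.SmallSimple.card_eq_of_le_centralizer (G := G) (p := 11) (by rw [hG]; norm_num) P hle
      omega
    · exact h
  subst he
  have ht : t = 5 := by
    have := hT.het
    omega
  subst ht
  obtain ⟨htX, htδ⟩ := hT.triv (by norm_num)
  -- the two characters
  obtain ⟨χ, hχX, hχt⟩ := Finset.exists_mem_ne (by rw [hT.cardX]; norm_num) (trivChar G)
  have hXe : X = {trivChar G, χ} := by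
    symm
    apply Finset.eq_of_subset_of_card_le
    · intro c hc
      simp only [Finset.mem_insert, Finset.mem_singleton] at hc
      rcases hc with rfl | rfl
      · exact htX
      · exact hχX
    · rw [hT.cardX, Finset.card_pair hχt.symm]
  obtain ⟨θ, hθ⟩ : Y.Nonempty := by
    rw [← Finset.card_pos, hT.cardY]
    norm_num
  have hrel := hT.rel 1 (by simp) θ hθ
  rw [hXe, Finset.sum_pair hχt.symm, dg_cast θ, dg_cast χ, dg_cast (trivChar G), dg_triv, htδ] at hrel
  have hrelZ : ε * (dg θ : ℤ) = 1 + δ χ * (dg χ : ℤ) := by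
    have h1 : ((ε * (dg θ : ℤ) : ℤ) : ℂ) = ((1 + δ χ * (dg χ : ℤ) : ℤ) : ℂ) := by
      push_cast at hrel ⊢
      linear_combination hrel
    exact_mod_cast h1
  have hdX := hT.degX χ hχX
  have hsX := hT.signX χ hχX
  have hsY := hT.sign
  have hnc := noncomm_of_card hG
  have hχ1 : dg χ ≠ 1 := Cfsg.Agent.Lib.Blocks.TI9.degree_ne_one_of_simple hnc hχt (dg_cast χ)
  have hχp := dg_pos χ
  have hθp := dg_pos θ
  have hd88 : dg χ < 89 := by
    have := dg_sq_le χ
    rw [hG] at this
    nlinarith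
  have hD88 : dg θ < 89 := by
    have := dg_sq_le θ
    rw [hG] at this
    nlinarith
  have hd1 : dg χ ∣ 7920 := hG ▸ dg_dvd χ
  have hD1 : dg θ ∣ 7920 := hG ▸ dg_dvd θ
  have hdX' : ((dg χ : ℤ) - δ χ) % 11 = 0 := by
    have h1 : (dg χ : ℤ) ≡ δ χ [ZMOD ((11 : ℕ) : ℤ)] := hdX
    have h2 := Int.ModEq.sub_right (δ χ) h1
    simp only [sub_self] at h2
    simpa [Int.ModEq] using h2
  have hD9 : dg θ = 9 := by
    refine numeric45 (dg χ) (Finset.mem_range.2 hd88) (dg θ) (Finset.mem_range.2 hD88) hd1 hD1 hχ1 hθp ?_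
    rcases hsX with h1 | h1 <;> rcases hsY with h2 | h2 <;> rw [h1] at hrelZ hdX' <;> rw [h2] at hrelZ
    · left; omega
    · exfalso; omega
    · exfalso; omega
    · right; omega
  have hθt : θ ≠ trivChar G := by
    intro h
    rw [h, dg_triv] at hD9
    omega
  obtain ⟨a, F, _, _, h11, -, -⟩ := pm2_main P hcP hnn θ
    (fun g hg => Cfsg.Agent.Lib.Blocks.TI9.eq_one_of_value_eq_degree hθt hg)
    (by change dg θ + 2 = 11; omega) (by norm_num)
  have h2a : 2 ^ a = 10 := by omega
  have ha : a < 4 := by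
    by_contra h4
    have : 2 ^ 4 ≤ 2 ^ a := Nat.pow_le_pow_right (by norm_num) (by omega)
    omega
  interval_cases a <;> omega

set_option maxRecDepth 100000 in
lemma numeric_n11 : ∀ n ∈ Finset.range 721, n ∣ 720 → n % 11 = 1 → n = 1 ∨ n = 12 ∨ n = 45 ∨ n = 144 := by
  decide

theorem card_sylow11 (hG : Nat.card G = 7920) : Nat.card (Sylow 11 G) = 144 := by
  classical
  haveI : Fintype G := Fintype.ofFinite G
  haveI hp11 : Fact (Nat.Prime 11) := ⟨by norm_num⟩
  obtain ⟨x, hx⟩ := exists_prime_orderOf_dvd_card' (G := G) 11 (by rw [hG]; norm_num)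
  obtain ⟨P, hP⟩ := exists_sylow_zpowers (G := G) (by rw [hG]; norm_num) hx
  have hcP : Nat.card (P : Subgroup G) = 11 := by rw [← hP, Nat.card_zpowers, hx]
  have hnn := sylow_not_normal P (by omega) (by omega)
  have h1 := card_sylow_mul P
  rw [hG] at h1
  have h2 : 11 ∣ Nat.card (normalizer ((P : Subgroup G) : Set G)) := by
    have := Subgroup.card_dvd_of_le (le_normalizer (H := (P : Subgroup G)))
    rwa [hcP] at this
  obtain ⟨m, hm⟩ := h2
  have h3 : Nat.card (Sylow 11 G) * m = 720 := by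
    rw [hm] at h1
    nlinarith
  have h4 : Nat.card (Sylow 11 G) % 11 = 1 := by
    have := card_sylow_modEq_one 11 G
    simpa [Nat.ModEq] using this
  have h5 : Nat.card (Sylow 11 G) ∣ 720 := ⟨m, h3.symm⟩
  have h6 : Nat.card (Sylow 11 G) < 721 := Nat.lt_succ_of_le (Nat.le_of_dvd (by norm_num) h5)
  rcases numeric_n11 _ (Finset.mem_range.2 h6) h5 h4 with h | h | h | h
  · exfalso
    apply hnn
    rw [h, one_mul] at h1
    have htop : normalizer ((P : Subgroup G) : Set G) = ⊤ := by
      apply Subgroup.eq_top_of_card_eq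
      rw [h1, hG]
    exact Subgroup.normalizer_eq_top_iff.1 htop
  · exfalso
    have hcen : ∀ c : G, c * x = x * c → c ∈ zpowers x := fun c hc =>
      self_cen_of_card_sylow hx P hP (by omega) hnn hc
    have hζ : IsPrimitiveRoot (Complex.exp (2 * Real.pi * Complex.I / (11 : ℕ))) 11 :=
      Complex.isPrimitiveRoot_exp 11 (by norm_num)
    obtain ⟨e, t, X, Y, δ, ε, b, hT⟩ := exists_scTable hx hcen P hP hζ
    have h7 := hT.cardN
    rw [hP] at h7
    have h8 := hT.het
    rw [h] at h1
    have h9 : 0 < t ∨ t = 0 := by omega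
    rcases h9 with h9 | h9
    · nlinarith
    · subst h9
      omega
  · exact (not_card_45 hG hx P hP h).elim
  · exact h

theorem card_normalizer11 (hG : Nat.card G = 7920) (P : Sylow 11 G) :
    Nat.card (normalizer ((P : Subgroup G) : Set G)) = 55 := by
  haveI hp11 : Fact (Nat.Prime 11) := ⟨by norm_num⟩
  have h1 := card_sylow_mul P
  rw [card_sylow11 hG, hG] at h1
  omega

/-- Elements of order 11 are self-centralizing. -/
theorem eleven_self_cen (hG : Nat.card G = 7920) {x y : G} (hx : orderOf x = 11) (hy : y * x = x * y) :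
    y ∈ zpowers x := by
  classical
  haveI hp11 : Fact (Nat.Prime 11) := ⟨by norm_num⟩
  obtain ⟨P, hP⟩ := exists_sylow_zpowers (G := G) (by rw [hG]; norm_num) hx
  have hcP : Nat.card (P : Subgroup G) = 11 := by rw [← hP, Nat.card_zpowers, hx]
  have hN := card_normalizer11 hG P
  set C := centralizer ((zpowers x : Subgroup G) : Set G) with hC
  have hCN : C ≤ normalizer ((zpowers x : Subgroup G) : Set G) := Subgroup.centralizer_le_normalizer _
  have hxC : zpowers x ≤ C := by
    intro g hg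
    rw [hC, Subgroup.mem_centralizer_iff]
    intro h hh
    obtain ⟨k, rfl⟩ := Subgroup.mem_zpowers_iff.1 hh
    obtain ⟨l, rfl⟩ := Subgroup.mem_zpowers_iff.1 hg
    exact (Commute.zpow_zpow_self x k l).eq
  have hdvd : Nat.card C ∣ 55 := by
    rw [← hN, ← hP]
    exact Subgroup.card_dvd_of_le hCN
  have h11 : 11 ∣ Nat.card C := by
    have h1 : Nat.card (zpowers x) ∣ Nat.card C := Subgroup.card_dvd_of_le hxC
    rwa [Nat.card_zpowers, hx] at h1
  have hopts : Nat.card C = 11 ∨ Nat.card C = 55 := by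
    have h55 : Nat.card C ∈ Nat.divisors 55 := by
      rw [Nat.mem_divisors]
      exact ⟨hdvd, by norm_num⟩
    have : Nat.divisors 55 = {1, 5, 11, 55} := by decide
    rw [this] at h55
    simp only [Finset.mem_insert, Finset.mem_singleton] at h55
    rcases h55 with h | h | h | h <;> rw [h] at h11 ⊢ <;> first | omega | simp
  have hyC : y ∈ C := by
    rw [hC, Subgroup.mem_centralizer_iff]
    intro h hh
    obtain ⟨k, rfl⟩ := Subgroup.mem_zpowers_iff.1 hh
    exact (Commute.zpow_right hy k).symm.eq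
  rcases hopts with h | h
  · have : zpowers x = C := Subgroup.eq_of_le_of_card_ge hxC (by rw [h, Nat.card_zpowers, hx])
    rw [this]
    exact hyC
  · exfalso
    have hNC : C = normalizer ((zpowers x : Subgroup G) : Set G) := Subgroup.eq_of_le_of_card_ge hCN (by
      rw [h, hP, hN])
    have hle : normalizer ((P : Subgroup G) : Set G) ≤ centralizer ((P : Subgroup G) : Set G) := by
      rw [← hP, ← hNC]
    have := Cfsg.Agent.Lib.Basic.SmallSimple.card_eq_of_le_centralizer (G := G) (p := 11) (by rw [hG]; norm_num) P hle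
    omega

end Order

end Cfsg.Agent.Lib.M11Ord
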