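import Mathlib
import Cfsg.Agent.Lib.M11Ord.Eleven

/-!
# Simple groups of order 7920: the table at the prime 11
-/

set_option autoImplicit false
set_option linter.unusedSectionVars false

namespace Cfsg.Agent.Lib.M11Ord

open Cfsg Subgroup Finset
open Cfsg.Agent.Lib.Blocks.Principal (trivChar coe_trivChar)
open Cfsg.Agent.Lib.DefectOne
open scoped ComplexConjugate

universe u

variable {G : Type u} [Group G] [Fintype G] [IsSimpleGroup G]

set_option maxRecDepth 100000 in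
lemma numericX : ∀ d ∈ Finset.range 89, d ∣ 7920 → d ≠ 1 → d ≠ 0 →
    (d % 11 = 1 → d = 12 ∨ d = 45) ∧ (d % 11 = 10 → d = 10) := by decide

set_option maxRecDepth 100000 in
lemma numericY : ∀ D ∈ Finset.range 89, D ∣ 7920 → D ≠ 0 →
    (D % 11 = 5 → D = 5 ∨ D = 16 ∨ D = 60) ∧ (D % 11 = 6 → D = 6 ∨ D = 72) := by decide

lemma dg_lt_89 (hG : Nat.card G = 7920) (χ : IrrCharacter G) : dg χ < 89 := by
  have := dg_sq_le χ
  rw [hG] at this
  nlinarith

/-- The shape of the table at 11. -/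
structure Tab11 (X Y : Finset (IrrCharacter G)) (δ : IrrCharacter G → ℤ) (ε : ℤ) (D u v w : ℕ) : Prop where
  hε : ε = 1
  hY : ∀ θ ∈ Y, dg θ = D
  hX : ∀ χ ∈ X.erase (trivChar G), (δ χ = 1 ∧ dg χ = u) ∨ (δ χ = 1 ∧ dg χ = v) ∨ (δ χ = -1 ∧ dg χ = w)

theorem table11 (hG : Nat.card G = 7920) {x : G} (hx : orderOf x = 11) [Fact (Nat.Prime 11)] {ζ : ℂ} {e t : ℕ}
    {X Y : Finset (IrrCharacter G)} {δ : IrrCharacter G → ℤ} {ε : ℤ} {b : IrrCharacter G → ZMod 11}
    (hT : SCTable x ζ e t X Y δ ε b) :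
    ε = 1 ∧ Y.card = 2 ∧ (X.erase (trivChar G)).card = 4 ∧ trivChar G ∈ X ∧ δ (trivChar G) = 1 ∧
    (((∀ θ ∈ Y, dg θ = 16) ∧
      (∀ χ ∈ X.erase (trivChar G), (δ χ = 1 ∧ dg χ = 45) ∨ (δ χ = -1 ∧ dg χ = 10)) ∧
      ((X.erase (trivChar G)).filter (fun χ => dg χ = 45)).card = 1 ∧
      ((X.erase (trivChar G)).filter (fun χ => dg χ = 10)).card = 3) ∨
     ((∀ θ ∈ Y, dg θ = 5) ∧ (∀ χ ∈ X.erase (trivChar G), (δ χ = 1 ∧ dg χ = 12) ∨ (δ χ = -1 ∧ dg χ = 10)) ∧
      ((X.erase (trivChar G)).filter (fun χ => dg χ = 12)).card = 2)) := by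
  classical
  have hp11 : Nat.Prime 11 := by norm_num
  have hnc := noncomm_of_card (G := G) hG
  obtain ⟨P, hP⟩ := exists_sylow_zpowers (G := G) (by rw [hG]; norm_num) hx
  have h55 := card_normalizer11 hG P
  have hcN := hT.cardN
  rw [hP, h55] at hcN
  have he : e = 5 := by omega
  subst he
  have ht : t = 2 := by
    have := hT.het
    omega
  subst ht
  obtain ⟨htX, htδ⟩ := hT.triv (by norm_num)
  have hcX' : (X.erase (trivChar G)).card = 4 := by
    rw [Finset.card_erase_of_mem htX, hT.cardX]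
  -- options for the rows
  have hopt : ∀ χ ∈ X.erase (trivChar G), (δ χ = 1 ∧ dg χ = 12) ∨ (δ χ = 1 ∧ dg χ = 45) ∨ (δ χ = -1 ∧ dg χ = 10) := by
    intro χ hχ
    obtain ⟨hne, hχX⟩ := Finset.mem_erase.1 hχ
    have h1 := Cfsg.Agent.Lib.Blocks.TI9.degree_ne_one_of_simple hnc hne (dg_cast χ)
    have h2 := numericX (dg χ) (Finset.mem_range.2 (dg_lt_89 hG χ)) (hG ▸ dg_dvd χ) h1 (dg_pos χ).ne'
    have hd : (dg χ : ℤ) ≡ δ χ [ZMOD ((11 : ℕ) : ℤ)] := hT.degX χ hχX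
    have hd' : ((dg χ : ℤ) - δ χ) % 11 = 0 := by
      have h3 := Int.ModEq.sub_right (δ χ) hd
      simp only [sub_self] at h3
      simpa [Int.ModEq] using h3
    rcases hT.signX χ hχX with h3 | h3
    · rw [h3] at hd'
      rcases h2.1 (by omega) with h4 | h4
      · exact Or.inl ⟨h3, h4⟩
      · exact Or.inr (Or.inl ⟨h3, h4⟩)
    · rw [h3] at hd'
      exact Or.inr (Or.inr ⟨h3, h2.2 (by omega)⟩)
  set X' := X.erase (trivChar G) with hX'
  set a := (X'.filter (fun χ => dg χ = 12)).card with ha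
  set c1 := (X'.filter (fun χ => dg χ = 45)).card with hc1
  set c2 := (X'.filter (fun χ => dg χ = 10)).card with hc2
  have hmaps : ∀ χ ∈ X', dg χ ∈ ({12, 45, 10} : Finset ℕ) := by
    intro χ hχ
    rcases hopt χ hχ with h | h | h <;> simp [h.2]
  have hcount : a + c1 + c2 = 4 := by
    have h1 := Finset.card_eq_sum_card_fiberwise (s := X') (t := ({12, 45, 10} : Finset ℕ)) (f := dg)
      (fun χ hχ => by exact_mod_cast hmaps χ hχ)
    rw [hcX'] at h1
    rw [Finset.sum_insert (by decide), Finset.sum_insert (by decide), Finset.sum_singleton] at h1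
    omega
  have hsumX : ∑ χ ∈ X, δ χ * (dg χ : ℤ) = 1 + 12 * a + 45 * c1 - 10 * c2 := by
    rw [← Finset.add_sum_erase X _ htX, htδ, dg_triv]
    have h1 := Finset.sum_fiberwise_of_maps_to (s := X') (t := ({12, 45, 10} : Finset ℕ)) (g := dg) hmaps
      (fun χ => δ χ * (dg χ : ℤ))
    rw [← h1, Finset.sum_insert (by decide), Finset.sum_insert (by decide), Finset.sum_singleton]
    have e1 : ∑ χ ∈ X' with dg χ = 12, δ χ * (dg χ : ℤ) = 12 * a := by
      rw [Finset.sum_congr rfl (g := fun _ => (12 : ℤ)), Finset.sum_const, nsmul_eq_mul, mul_comm]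
      intro χ hχ
      obtain ⟨h2, h3⟩ := Finset.mem_filter.1 hχ
      rcases hopt χ h2 with h | h | h
      · rw [h.1, h3]; norm_num
      · omega
      · omega
    have e2 : ∑ χ ∈ X' with dg χ = 45, δ χ * (dg χ : ℤ) = 45 * c1 := by
      rw [Finset.sum_congr rfl (g := fun _ => (45 : ℤ)), Finset.sum_const, nsmul_eq_mul, mul_comm]
      intro χ hχ
      obtain ⟨h2, h3⟩ := Finset.mem_filter.1 hχ
      rcases hopt χ h2 with h | h | h
      · omega
      · rw [h.1, h3]; norm_num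
      · omega
    have e3 : ∑ χ ∈ X' with dg χ = 10, δ χ * (dg χ : ℤ) = -(10 * c2) := by
      rw [Finset.sum_congr rfl (g := fun _ => (-10 : ℤ)), Finset.sum_const, nsmul_eq_mul]
      · push_cast
        ring
      · intro χ hχ
        obtain ⟨h2, h3⟩ := Finset.mem_filter.1 hχ
        rcases hopt χ h2 with h | h | h
        · omega
        · omega
        · rw [h.1, h3]; norm_num
    rw [e1, e2, e3]
    push_cast
    ring
  -- the common degree
  have hrel : ∀ θ ∈ Y, ε * (dg θ : ℤ) = 1 + 12 * a + 45 * c1 - 10 * c2 := by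
    intro θ hθ
    have h1 := hT.rel 1 (by simp) θ hθ
    rw [dg_cast θ, Finset.sum_congr rfl (fun χ _ => by rw [dg_cast χ])] at h1
    rw [← hsumX]
    have h2 : ((ε * (dg θ : ℤ) : ℤ) : ℂ) = ((∑ χ ∈ X, δ χ * (dg χ : ℤ) : ℤ) : ℂ) := by
      push_cast
      exact h1
    exact_mod_cast h2
  obtain ⟨θ₁, θ₂, hθne, hYe⟩ := Finset.card_eq_two.1 hT.cardY
  have hθ₁ : θ₁ ∈ Y := by rw [hYe]; simp
  have hθ₂ : θ₂ ∈ Y := by rw [hYe]; simp
  have hr1 := hrel θ₁ hθ₁
  obtain ⟨m, hm, hm1⟩ := hT.degY θ₁ hθ₁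
  have hD := numericY (dg θ₁) (Finset.mem_range.2 (dg_lt_89 hG θ₁)) (hG ▸ dg_dvd θ₁) (dg_pos θ₁).ne'
  have hm' : (dg θ₁ : ℤ) = 11 * m + ε * 5 := by
    have h1 : (charDegree ((θ₁ : IrrCharacter G) : G → ℂ) : ℤ) = ((11 : ℕ) : ℤ) * m + ε * ((5 : ℕ) : ℤ) := hm
    have h2 : (dg θ₁ : ℤ) = (charDegree ((θ₁ : IrrCharacter G) : G → ℂ) : ℤ) := rfl
    rw [h2, h1]
    norm_num
  have hε : ε = 1 := by
    rcases hT.sign with h | h
    · exact h
    · exfalso
      have h1 := hm1 h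
      rw [h] at hm' hr1
      have h3 : dg θ₁ % 11 = 6 := by omega
      rcases hD.2 h3 with h4 | h4 <;> rw [h4] at hr1 <;> omega
  rw [hε] at hm' hr1
  have h3 : dg θ₁ % 11 = 5 := by omega
  have hdgY : ∀ θ ∈ Y, dg θ = dg θ₁ := by
    intro θ hθ
    have := hrel θ hθ
    rw [hε] at this
    omega
  refine ⟨hε, hT.cardY, hcX', htX, htδ, ?_⟩
  rcases hD.1 h3 with h4 | h4 | h4
  · -- degree 5
    right
    have hh : a = 2 ∧ c1 = 0 ∧ c2 = 2 := by
      rw [h4] at hr1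
      omega
    refine ⟨fun θ hθ => by rw [hdgY θ hθ, h4], ?_, hh.1⟩
    intro χ hχ
    rcases hopt χ hχ with h | h | h
    · exact Or.inl h
    · exfalso
      have h5 : χ ∈ X'.filter (fun χ => dg χ = 45) := Finset.mem_filter.2 ⟨hχ, h.2⟩
      have h6 := Finset.card_pos.2 ⟨χ, h5⟩
      omega
    · exact Or.inr h
  · -- degree 16
    left
    have hh : a = 0 ∧ c1 = 1 ∧ c2 = 3 := by
      rw [h4] at hr1
      omega
    refine ⟨fun θ hθ => by rw [hdgY θ hθ, h4], ?_, hh.2.1, hh.2.2⟩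
    intro χ hχ
    rcases hopt χ hχ with h | h | h
    · exfalso
      have h5 : χ ∈ X'.filter (fun χ => dg χ = 12) := Finset.mem_filter.2 ⟨hχ, h.2⟩
      have h6 := Finset.card_pos.2 ⟨χ, h5⟩
      omega
    · exact Or.inl h
    · exact Or.inr h
  · -- degree 60 is too large
    exfalso
    have hh : c1 = 1 := by
      rw [h4] at hr1
      omega
    obtain ⟨κ, hκ⟩ := Finset.card_pos.1 (by omega : 0 < (X'.filter (fun χ => dg χ = 45)).card)
    obtain ⟨hκ1, hκ2⟩ := Finset.mem_filter.1 hκ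
    have hκX : κ ∈ X := (Finset.mem_erase.1 hκ1).2
    have hd2 : dg θ₂ = 60 := by rw [hdgY θ₂ hθ₂, h4]
    have hn1 : κ ≠ θ₁ := fun h => Finset.disjoint_left.1 hT.disj hκX (h ▸ hθ₁)
    have hn2 : κ ≠ θ₂ := fun h => Finset.disjoint_left.1 hT.disj hκX (h ▸ hθ₂)
    have h5 : ∑ χ ∈ ({κ, θ₁, θ₂} : Finset (IrrCharacter G)), dg χ ^ 2 ≤ ∑ χ : IrrCharacter G, dg χ ^ 2 :=
      Finset.sum_le_sum_of_subset (Finset.subset_univ _)
    rw [sum_dg_sq, hG, Finset.sum_insert (by simp [hn1, hn2]), Finset.sum_pair hθne, hκ2, hd2, h4] at h5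
    omega

end Cfsg.Agent.Lib.M11Ord
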