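import Mathlib
import Cfsg.Agent.Lib.M11Ord.Rows11

/-!
# Simple groups of order 7920: multiplicities and the prime 5
-/

set_option autoImplicit false
set_option linter.unusedSectionVars false

namespace Cfsg.Agent.Lib.M11Ord

open Cfsg Subgroup Finset
open Cfsg.Agent.Lib.Blocks.Principal (trivChar coe_trivChar)
open Cfsg.Agent.Lib.DefectOne
open scoped ComplexConjugate

universe u

section KL

variable {G : Type u} [Group G] [Finite G]

lemma exists_lam {y : G} (hy1 : y ≠ 1) : ∃ lam : zpowers y →* ℂˣ, lam ⟨y, mem_zpowers y⟩ ≠ 1 := by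
  letI : CommGroup (zpowers y) := IsCyclic.commGroup
  exact CommGroup.exists_apply_ne_one_of_hasEnoughRootsOfUnity (zpowers y) ℂ (a := ⟨y, mem_zpowers y⟩)
    (fun h => hy1 (congrArg Subtype.val h))

/-- Multiplicities relative to an involution. -/
theorem mult_invol {χ : G → ℂ} (hχ : IsCharacter G χ) {y : G} (hy : orderOf y = 2) {S : Subgroup G} [Fintype S]
    (hcomm : ∀ s ∈ S, y * s = s * y) (hv1 : ∀ s ∈ S, s ≠ 1 → χ s = 0) (hv2 : ∀ s ∈ S, s ≠ 1 → χ (y * s) = 0) :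
    ∃ n₁ n₂ : ℕ, χ 1 + χ y = 2 * Nat.card S * n₁ ∧ χ 1 - χ y = 2 * Nat.card S * n₂ := by
  classical
  have hy1 : y ≠ 1 := by
    rintro rfl
    simp at hy
  haveI : Fintype (zpowers y) := Fintype.ofFinite _
  have hcA : Nat.card (zpowers y) = 2 := by rw [Nat.card_zpowers, hy]
  have hne : (1 : zpowers y) ≠ ⟨y, mem_zpowers y⟩ := fun h => hy1 (congrArg Subtype.val h).symm
  have huniv : (univ : Finset (zpowers y)) = {1, ⟨y, mem_zpowers y⟩} := by
    symm
    apply Finset.eq_of_subset_of_card_le (Finset.subset_univ _)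
    rw [Finset.card_univ, ← Nat.card_eq_fintype_card, hcA, Finset.card_pair hne]
  have hsum : ∀ F : zpowers y → ℂ, ∑ a, F a = F 1 + F ⟨y, mem_zpowers y⟩ := by
    intro F
    rw [huniv, Finset.sum_pair hne]
  have hmem : ∀ a ∈ zpowers y, a = 1 ∨ a = y := by
    intro a ha
    have h1 := Finset.mem_univ (⟨a, ha⟩ : zpowers y)
    rw [huniv, Finset.mem_insert, Finset.mem_singleton] at h1
    rcases h1 with h1 | h1
    · exact Or.inl (congrArg Subtype.val h1)
    · exact Or.inr (congrArg Subtype.val h1)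
  have hc : ∀ a ∈ zpowers y, ∀ s ∈ S, a * s = s * a := by
    intro a ha s hs
    rcases hmem a ha with rfl | rfl
    · simp
    · exact hcomm s hs
  have hvan : ∀ a ∈ zpowers y, ∀ s ∈ S, s ≠ 1 → χ (a * s) = 0 := by
    intro a ha s hs hs1
    rcases hmem a ha with rfl | rfl
    · rw [one_mul]
      exact hv1 s hs hs1
    · exact hv2 s hs hs1
  obtain ⟨lam, hlam⟩ := exists_lam hy1
  have hl2 : ((lam ⟨y, mem_zpowers y⟩ : ℂˣ) : ℂ) = -1 := by
    have h2 : (⟨y, mem_zpowers y⟩ : zpowers y) ^ 2 = 1 := by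
      apply Subtype.ext
      simp only [SubmonoidClass.mk_pow, OneMemClass.coe_one, ← hy, pow_orderOf_eq_one]
    have h3 : (lam ⟨y, mem_zpowers y⟩) ^ 2 = 1 := by rw [← map_pow, h2, map_one]
    have h4 : ((lam ⟨y, mem_zpowers y⟩ : ℂˣ) : ℂ) ^ 2 = 1 := by
      rw [← Units.val_pow_eq_pow_val, h3, Units.val_one]
    have h6 : (((lam ⟨y, mem_zpowers y⟩ : ℂˣ) : ℂ) - 1) * (((lam ⟨y, mem_zpowers y⟩ : ℂˣ) : ℂ) + 1) = 0 := by
      linear_combination h4
    rcases mul_eq_zero.1 h6 with h5 | h5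
    · exact absurd (Units.ext (sub_eq_zero.1 h5)) hlam
    · exact eq_neg_of_add_eq_zero_left h5
  obtain ⟨n₁, h₁⟩ := mult_of_vanish hχ hc hvan 1
  obtain ⟨n₂, h₂⟩ := mult_of_vanish hχ hc hvan lam
  rw [hsum, hcA] at h₁ h₂
  refine ⟨n₁, n₂, ?_, ?_⟩
  · simpa using h₁
  · rw [map_one, hl2] at h₂
    simp only [OneMemClass.coe_one, Units.val_one, map_one, mul_one, map_neg, mul_neg] at h₂
    push_cast at h₂
    rw [sub_eq_add_neg]
    exact h₂

/-- Multiplicities relative to an element of order 3 with real values. -/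
theorem mult_three {χ : G → ℂ} (hχ : IsCharacter G χ) {x : G} (hx : orderOf x = 3) {S : Subgroup G} [Fintype S]
    (hcomm : ∀ s ∈ S, x * s = s * x) (hv1 : ∀ s ∈ S, s ≠ 1 → χ s = 0) (hv2 : ∀ s ∈ S, s ≠ 1 → χ (x * s) = 0)
    (hv3 : ∀ s ∈ S, s ≠ 1 → χ (x⁻¹ * s) = 0) (hreal : χ x⁻¹ = χ x) :
    ∃ n₁ n₂ : ℕ, χ 1 + 2 * χ x = 3 * Nat.card S * n₁ ∧ χ 1 - χ x = 3 * Nat.card S * n₂ := by
  classical
  have hx1 : x ≠ 1 := by
    rintro rfl
    simp at hx
  have hx3 : x ^ 3 = 1 := by rw [← hx, pow_orderOf_eq_one]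
  have hxi : x⁻¹ = x ^ 2 := by
    rw [inv_eq_iff_mul_eq_one, ← pow_succ']
    exact hx3
  have hxne : x ≠ x⁻¹ := by
    intro h
    have h1 : x ^ 2 = 1 := by
      rw [pow_two]
      nth_rewrite 2 [h]
      group
    have h2 := orderOf_dvd_of_pow_eq_one h1
    rw [hx] at h2
    omega
  haveI : Fintype (zpowers x) := Fintype.ofFinite _
  have hcA : Nat.card (zpowers x) = 3 := by rw [Nat.card_zpowers, hx]
  let a₁ : zpowers x := ⟨x, mem_zpowers x⟩
  let a₂ : zpowers x := ⟨x⁻¹, (zpowers x).inv_mem (mem_zpowers x)⟩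
  have hne1 : (1 : zpowers x) ≠ a₁ := fun h => hx1 (congrArg Subtype.val h).symm
  have hne2 : (1 : zpowers x) ≠ a₂ := fun h => hx1 (inv_eq_one.1 (congrArg Subtype.val h).symm)
  have hne3 : a₁ ≠ a₂ := fun h => hxne (congrArg Subtype.val h)
  have huniv : (univ : Finset (zpowers x)) = {1, a₁, a₂} := by
    symm
    apply Finset.eq_of_subset_of_card_le (Finset.subset_univ _)
    rw [Finset.card_univ, ← Nat.card_eq_fintype_card, hcA, Finset.card_insert_of_notMem (by simp [hne1, hne2]),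
      Finset.card_pair hne3]
  have hsum : ∀ F : zpowers x → ℂ, ∑ a, F a = F 1 + F a₁ + F a₂ := by
    intro F
    rw [huniv, Finset.sum_insert (by simp [hne1, hne2]), Finset.sum_pair hne3]
    ring
  have hmem : ∀ a ∈ zpowers x, a = 1 ∨ a = x ∨ a = x⁻¹ := by
    intro a ha
    have h1 := Finset.mem_univ (⟨a, ha⟩ : zpowers x)
    rw [huniv, Finset.mem_insert, Finset.mem_insert, Finset.mem_singleton] at h1
    rcases h1 with h1 | h1 | h1
    · exact Or.inl (congrArg Subtype.val h1)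
    · exact Or.inr (Or.inl (congrArg Subtype.val h1))
    · exact Or.inr (Or.inr (congrArg Subtype.val h1))
  have hc : ∀ a ∈ zpowers x, ∀ s ∈ S, a * s = s * a := by
    intro a ha s hs
    rcases hmem a ha with rfl | rfl | rfl
    · simp
    · exact hcomm s hs
    · have h2 : Commute x s := hcomm s hs
      exact h2.inv_left.eq
  have hvan : ∀ a ∈ zpowers x, ∀ s ∈ S, s ≠ 1 → χ (a * s) = 0 := by
    intro a ha s hs hs1
    rcases hmem a ha with rfl | rfl | rfl
    · rw [one_mul]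
      exact hv1 s hs hs1
    · exact hv2 s hs hs1
    · exact hv3 s hs hs1
  obtain ⟨lam, hlam⟩ := exists_lam hx1
  set ζ : ℂ := ((lam a₁ : ℂˣ) : ℂ) with hζ
  have ha3 : a₁ ^ 3 = 1 := by
    apply Subtype.ext
    simp only [a₁, SubmonoidClass.mk_pow, OneMemClass.coe_one, hx3]
  have hζ3 : ζ ^ 3 = 1 := by
    rw [hζ, ← Units.val_pow_eq_pow_val, ← map_pow, ha3, map_one, Units.val_one]
  have hζ1 : ζ ≠ 1 := fun h => hlam (Units.ext h)
  have hζ0 : ζ ≠ 0 := (lam a₁).ne_zero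
  have hrel : ζ ^ 2 + ζ + 1 = 0 := by
    have h1 : (ζ - 1) * (ζ ^ 2 + ζ + 1) = 0 := by
      linear_combination hζ3
    rcases mul_eq_zero.1 h1 with h2 | h2
    · exact absurd (sub_eq_zero.1 h2) hζ1
    · exact h2
  set w : ℂ := conj ζ with hw
  have hwrel : w ^ 2 + w + 1 = 0 := by
    have h1 := congrArg conj hrel
    simpa [hw] using h1
  have hw3 : w ^ 3 = 1 := by
    linear_combination (w - 1) * hwrel
  have hl2 : conj ((lam a₂ : ℂˣ) : ℂ) = w ^ 2 := by
    have h1 : a₂ = a₁⁻¹ := rfl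
    rw [h1, map_inv, Units.val_inv_eq_inv_val, map_inv₀, ← hζ, ← hw]
    rw [inv_eq_iff_eq_inv]
    apply eq_inv_of_mul_eq_one_left
    rw [← pow_succ']
    exact hw3
  obtain ⟨n₁, h₁⟩ := mult_of_vanish hχ hc hvan 1
  obtain ⟨n₂, h₂⟩ := mult_of_vanish hχ hc hvan lam
  rw [hsum, hcA] at h₁ h₂
  refine ⟨n₁, n₂, ?_, ?_⟩
  · simp only [MonoidHom.one_apply, Units.val_one, map_one, mul_one, OneMemClass.coe_one, a₂, hreal] at h₁
    push_cast at h₁
    linear_combination h₁
  · rw [map_one, hl2] at h₂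
    simp only [OneMemClass.coe_one, Units.val_one, map_one, mul_one, a₂, hreal] at h₂
    push_cast at h₂
    have h3 : (χ ((a₁ : zpowers x) : G)) = χ x := rfl
    rw [h3, ← hζ, ← hw] at h₂
    linear_combination h₂ - χ x * hwrel

end KL

section Simple

variable {G : Type u} [Group G] [Finite G] [IsSimpleGroup G]

/-- Irreducible characters of full `p`-part vanish on `p`-singular elements. -/
lemma vanish_of_dvd (χ : IrrCharacter G) {p n : ℕ} (hp : p.Prime) (hn : p ^ n ∣ Nat.card G)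
    (hn' : ¬ p ^ (n + 1) ∣ Nat.card G) (hd : p ^ n ∣ dg χ) (g : G) (hg : p ∣ orderOf g) : (χ : G → ℂ) g = 0 := by
  have hc := dg_cast χ
  have hd' := hd
  obtain ⟨χ', k, ρ, hρ, rfl⟩ := χ
  haveI : ρ.IsIrreducible := hρ
  have h1 : Module.finrank ℂ (Fin k → ℂ) = dg (⟨ρ.character, ⟨k, ρ, hρ, rfl⟩⟩ : IrrCharacter G) := by
    have h2 : (ρ.character 1 : ℂ) = (dg (⟨ρ.character, ⟨k, ρ, hρ, rfl⟩⟩ : IrrCharacter G) : ℂ) := hc
    rw [Representation.char_one] at h2
    exact_mod_cast h2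
  exact Cfsg.Agent.Lib.Char.PRegular.character_eq_zero_of_defect_zero ρ p n hp hn hn' (by rw [h1]; exact hd') g hg

/-- An irreducible nontrivial character detects the identity through the norm. -/
theorem eq_one_of_norm_eq (hnc : ∃ u v : G, u * v ≠ v * u) {χ : IrrCharacter G} (hχ : χ ≠ trivChar G) {g : G}
    (h : ‖(χ : G → ℂ) g‖ = (dg χ : ℝ)) : g = 1 := by
  classical
  have hcast := dg_cast χ
  have hval : ∀ c : G, (χ : G → ℂ) c = (χ : G → ℂ) 1 → c = 1 := fun c hc =>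
    Cfsg.Agent.Lib.Blocks.TI9.eq_one_of_value_eq_degree hχ hc
  obtain ⟨χ', k, ρ, hρ, rfl⟩ := χ
  have h1 : Module.finrank ℂ (Fin k → ℂ) = dg (⟨ρ.character, ⟨k, ρ, hρ, rfl⟩⟩ : IrrCharacter G) := by
    have h2 : (ρ.character 1 : ℂ) = (dg (⟨ρ.character, ⟨k, ρ, hρ, rfl⟩⟩ : IrrCharacter G) : ℂ) := hcast
    rw [Representation.char_one] at h2
    exact_mod_cast h2
  have h2 : ‖ρ.character g‖ = (Module.finrank ℂ (Fin k → ℂ) : ℝ) := by
    rw [h1]
    exact h
  obtain ⟨ω, hω⟩ := (Cfsg.Agent.Lib.Char.Values.norm_character_eq_iff ρ g).1 h2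
  have hcomm : ∀ y : G, g * y = y * g := by
    intro y
    have h3 : ρ (g * y) = ρ (y * g) := by
      rw [map_mul, map_mul, hω]
      apply LinearMap.ext
      intro v
      simp [Module.End.mul_apply]
    have h4 : ρ ((g * y) * (y * g)⁻¹) = 1 := by
      rw [map_mul, h3, ← map_mul, mul_inv_cancel, map_one]
    have h5 : ρ.character ((g * y) * (y * g)⁻¹) = ρ.character 1 := by
      simp only [Representation.character, h4, map_one]
    have h6 := hval _ h5
    exact mul_inv_eq_one.1 h6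
  have hcen : g ∈ Subgroup.center G := by
    rw [Subgroup.mem_center_iff]
    intro y
    exact (hcomm y).symm
  rcases (inferInstance : (Subgroup.center G).Normal).eq_bot_or_eq_top with h7 | h7
  · rwa [h7, Subgroup.mem_bot] at hcen
  · exfalso
    obtain ⟨u, v, huv⟩ := hnc
    apply huv
    have h8 : u ∈ Subgroup.center G := by rw [h7]; trivial
    exact (Subgroup.mem_center_iff.1 h8 v).symm

end Simple

end Cfsg.Agent.Lib.M11Ord
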