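import Mathlib
import Cfsg.Agent.Lib.M11Ord.Invol
import Cfsg.Agent.Lib.M11Rec.Target
import Cfsg.Agent.Lib.Basic.ConjCount

/-!
# Simple groups of order 7920: the hypotheses of the recognition theorem
-/

set_option autoImplicit false
set_option linter.unusedSectionVars false

namespace Cfsg.Agent.Lib.M11Ord

open Cfsg Subgroup Finset Complex
open Cfsg.Agent.Lib.Blocks.Principal (trivChar coe_trivChar)
open scoped ComplexConjugate

universe u

variable {G : Type u} [Group G] [Finite G] [IsSimpleGroup G]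

attribute [local instance] Classical.propDecidable

lemma card_centralizer_conj' (g t : G) :
    Nat.card (centralizer ({g * t * g⁻¹} : Set G)) = Nat.card (centralizer ({t} : Set G)) := by
  have h1 := Cfsg.Agent.Lib.Basic.ConjCount.card_isConj_mul_card_centralizer t
  have h2 := Cfsg.Agent.Lib.Basic.ConjCount.card_isConj_mul_card_centralizer (g * t * g⁻¹)
  have h3 : Nat.card {y : G // IsConj t y} = Nat.card {y : G // IsConj (g * t * g⁻¹) y} := by
    refine Nat.card_congr (Equiv.subtypeEquivRight fun y => ?_)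
    have h4 : IsConj t (g * t * g⁻¹) := isConj_iff.2 ⟨g, rfl⟩
    exact ⟨fun h => h4.symm.trans h, fun h => h4.trans h⟩
  have hpos : 0 < Nat.card {y : G // IsConj t y} := Nat.card_pos_iff.2 ⟨⟨⟨t, IsConj.refl _⟩⟩, inferInstance⟩
  rw [← h3] at h2
  exact Nat.eq_of_mul_eq_mul_left hpos (h2.trans h1.symm)

lemma exists_central_invol {T : Subgroup G} (hT : Nat.card T = 16) :
    ∃ z ∈ T, orderOf z = 2 ∧ ∀ t ∈ T, z * t = t * z := by
  haveI : Fact (Nat.Prime 2) := ⟨Nat.prime_two⟩
  have hp : IsPGroup 2 T := IsPGroup.of_card (n := 4) (by rw [hT]; norm_num)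
  haveI : Nontrivial T := by
    apply Finite.one_lt_card_iff_nontrivial.1
    rw [hT]
    norm_num
  haveI := hp.center_nontrivial
  have hc : IsPGroup 2 (Subgroup.center T) := hp.to_subgroup _
  obtain ⟨k, hk⟩ := IsPGroup.iff_card.mp hc
  have h1 : 1 < Nat.card (Subgroup.center T) := Finite.one_lt_card
  have hk0 : k ≠ 0 := by
    rintro rfl
    rw [hk] at h1
    norm_num at h1
  obtain ⟨c, hco⟩ := exists_prime_orderOf_dvd_card' (G := Subgroup.center T) 2 (by rw [hk]; exact dvd_pow_self 2 hk0)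
  refine ⟨((c : T) : G), (c : T).2, ?_, ?_⟩
  · rw [Subgroup.orderOf_coe, Subgroup.orderOf_coe, hco]
  · intro t ht
    have h2 := (Subgroup.mem_center_iff.1 c.2) ⟨t, ht⟩
    exact (congrArg Subtype.val h2).symm

namespace Rows

variable {α β γ κ θ θ' ν μ ξ : IrrCharacter G} (R : Rows α β γ κ θ θ' ν μ ξ)

include R

/-- The structure of the normalizer of a Sylow 3-subgroup. -/
theorem exists_T (hG : Nat.card G = 7920) (P : Sylow 3 G) :
    ∃ (T : Subgroup G) (z u x : G), Nat.card T = 16 ∧ x ∈ (P : Subgroup G) ∧ orderOf x = 3 ∧ u ∈ T ∧ orderOf u = 2 ∧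
      u * x = x * u ∧ z ∈ T ∧ orderOf z = 2 ∧ (∀ t ∈ T, z * t = t * z) ∧ (∀ s ∈ (P : Subgroup G), z * s * z⁻¹ = s⁻¹) ∧
      (∀ y ∈ T, orderOf y = 2 → y ≠ z → ∃ x' ∈ (P : Subgroup G), orderOf x' = 3 ∧ x' * y = y * x') ∧
      (∀ y ∈ T, orderOf y = 2 → (∀ t ∈ T, y * t = t * y) → y = z) := by
  classical
  haveI : Fact (Nat.Prime 2) := ⟨Nat.prime_two⟩
  obtain ⟨x, hxP, hx⟩ := R.exists_order_three hG P
  have hcen := (R.three_col hG hx).1
  have hN := R.card_normalizer hG P
  set N := normalizer ((P : Subgroup G) : Set G) with hNdef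
  have hCN : centralizer ({x} : Set G) ≤ N := R.cen_le_normalizer hG P hxP hx
  obtain ⟨u', hu'⟩ := exists_prime_orderOf_dvd_card' (G := centralizer ({x} : Set G)) 2 (by rw [hcen]; norm_num)
  set u : G := (u' : G) with hud
  have huo : orderOf u = 2 := by rw [hud, Subgroup.orderOf_coe, hu']
  have huC : u ∈ centralizer ({x} : Set G) := u'.2
  have hux : u * x = x * u := Subgroup.mem_centralizer_singleton_iff.1 huC
  obtain ⟨T, hT, hTN, huT⟩ := exists16 (D := N) (by rw [hN]; norm_num) (hCN huC) huo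
  have hPcard := card_sylow3 hG P
  -- `P` and `T` intersect trivially
  have hdisj : ∀ t ∈ T, t ∈ (P : Subgroup G) → t = 1 := by
    intro t ht1 ht2
    have h1 := Subgroup.orderOf_dvd_natCard T ht1
    have h2 := Subgroup.orderOf_dvd_natCard (P : Subgroup G) ht2
    rw [hT] at h1
    rw [hPcard] at h2
    exact orderOf_eq_one_iff.1 (Nat.eq_one_of_dvd_coprimes (show Nat.Coprime 16 9 by norm_num) h1 h2)
  -- transitivity from `x`
  have hconjP : ∀ t ∈ N, ∀ s ∈ (P : Subgroup G), t * s * t⁻¹ ∈ (P : Subgroup G) :=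
    fun t ht s hs => (Subgroup.mem_normalizer_iff.1 ht s).1 hs
  have hTrans0 : ∀ y ∈ (P : Subgroup G), y ≠ 1 → ∃ t ∈ T, t * x * t⁻¹ = y := by
    have hmain := Cfsg.Agent.Lib.M11Rec.card_mul_ncard_image T (T ⊓ centralizer ({x} : Set G)) inf_le_left
      (fun a => a * x * a⁻¹) (by
        intro a ha b hb
        rw [Subgroup.mem_inf, Subgroup.mem_centralizer_singleton_iff]
        constructor
        · intro h
          have h1 : a * x * a⁻¹ = b * x * b⁻¹ := h
          refine ⟨T.mul_mem (T.inv_mem ha) hb, ?_⟩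
          calc a⁻¹ * b * x = a⁻¹ * (b * x * b⁻¹) * b := by group
            _ = a⁻¹ * (a * x * a⁻¹) * b := by rw [h1]
            _ = x * (a⁻¹ * b) := by group
        · rintro ⟨-, h⟩
          change a * x * a⁻¹ = b * x * b⁻¹
          calc a * x * a⁻¹ = a * (x * (a⁻¹ * b)) * b⁻¹ := by group
            _ = a * (a⁻¹ * b * x) * b⁻¹ := by rw [h]
            _ = b * x * b⁻¹ := by group)
    rw [hT] at hmain
    have h1 : Nat.card ↥(T ⊓ centralizer ({x} : Set G)) ∣ 2 := by
      have h2 : Nat.card ↥(T ⊓ centralizer ({x} : Set G)) ∣ 16 := by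
        rw [← hT]
        exact Subgroup.card_dvd_of_le inf_le_left
      have h3 : Nat.card ↥(T ⊓ centralizer ({x} : Set G)) ∣ 18 := by
        rw [← hcen]
        exact Subgroup.card_dvd_of_le inf_le_right
      exact Nat.dvd_gcd h2 h3
    have h2 : 8 ≤ ((fun a => a * x * a⁻¹) '' (T : Set G)).ncard := by
      have h3 : Nat.card ↥(T ⊓ centralizer ({x} : Set G)) ≤ 2 := Nat.le_of_dvd (by norm_num) h1
      by_contra hlt
      push Not at hlt
      have : Nat.card ↥(T ⊓ centralizer ({x} : Set G)) * ((fun a => a * x * a⁻¹) '' (T : Set G)).ncard ≤ 2 * 7 :=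
        Nat.mul_le_mul h3 (by omega)
      omega
    have hsub : (fun a => a * x * a⁻¹) '' (T : Set G) ⊆ ((P : Subgroup G) : Set G) \ {1} := by
      rintro _ ⟨a, ha, rfl⟩
      refine ⟨hconjP a (hTN ha) x hxP, ?_⟩
      intro h
      have h1 : a * x * a⁻¹ = 1 := h
      have h2 : x = 1 := by
        have h3 : a * x = a := mul_inv_eq_one.1 h1
        simpa using h3
      rw [h2, orderOf_one] at hx
      omega
    have heq := Set.eq_of_subset_of_ncard_le hsub (by rw [ncard_sharp hG P]; exact h2)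
    intro y hy hy1
    have h3 : y ∈ ((P : Subgroup G) : Set G) \ {1} := ⟨hy, hy1⟩
    rw [← heq] at h3
    obtain ⟨t, ht, hte⟩ := h3
    exact ⟨t, ht, hte⟩
  have hTrans : ∀ s ∈ (P : Subgroup G), s ≠ 1 → ∀ y ∈ (P : Subgroup G), y ≠ 1 → ∃ t ∈ T, t * s * t⁻¹ = y := by
    intro s hs hs1 y hy hy1
    obtain ⟨t₁, ht₁, e₁⟩ := hTrans0 s hs hs1
    obtain ⟨t₂, ht₂, e₂⟩ := hTrans0 y hy hy1
    refine ⟨t₂ * t₁⁻¹, T.mul_mem ht₂ (T.inv_mem ht₁), ?_⟩
    rw [← e₁, ← e₂]
    group
  -- a central element of `T` of order 2 has no fixed points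
  have hcnf : ∀ w ∈ T, orderOf w = 2 → (∀ t ∈ T, w * t = t * w) → ∀ s ∈ (P : Subgroup G), s ≠ 1 → w * s ≠ s * w := by
    intro w hw hwo hwc s hs hs1 hws
    refine R.no_invol_nine hG hwo hPcard (fun y hy => ?_)
    by_cases hy1 : y = 1
    · rw [hy1, mul_one, one_mul]
    · obtain ⟨t, ht, rfl⟩ := hTrans s hs hs1 y hy hy1
      have h1 : Commute w t := hwc t ht
      have h2 : Commute w s := hws
      exact (h1.mul_right h2 |>.mul_right h1.inv_right).eq
  -- elements without fixed points invert `P`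
  have hinv : ∀ w ∈ T, orderOf w = 2 → (∀ s ∈ (P : Subgroup G), s ≠ 1 → w * s ≠ s * w) → ∀ s ∈ (P : Subgroup G), w * s * w⁻¹ = s⁻¹ := by
    intro w hw hwo hno s hs
    have hw2 : w * w = 1 := by rw [← pow_two, ← hwo, pow_orderOf_eq_one]
    have hwinv : w⁻¹ = w := inv_eq_of_mul_eq_one_left hw2
    have hs' : w * s * w⁻¹ ∈ (P : Subgroup G) := hconjP w (hTN hw) s hs
    have h1 : s * (w * s * w⁻¹) ∈ (P : Subgroup G) := Subgroup.mul_mem _ hs hs'
    have h2 : w * (s * (w * s * w⁻¹)) = (s * (w * s * w⁻¹)) * w := by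
      have hcm := sylow3_comm hG P hs' hs
      calc w * (s * (w * s * w⁻¹)) = (w * s * w⁻¹) * s * w := by rw [hwinv]; group
        _ = (s * (w * s * w⁻¹)) * w := by rw [hcm]
    by_contra hne
    have h4 : s * (w * s * w⁻¹) ≠ 1 := by
      intro h5
      exact hne (eq_inv_of_mul_eq_one_right h5)
    exact hno _ h1 h4 h2
  obtain ⟨z, hzT, hzo, hzc⟩ := exists_central_invol hT
  have hz2 : z * z = 1 := by rw [← pow_two, ← hzo, pow_orderOf_eq_one]
  have hzinv := hinv z hzT hzo (hcnf z hzT hzo hzc)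
  refine ⟨T, z, u, x, hT, hxP, hx, huT, huo, hux, hzT, hzo, hzc, hzinv, ?_, ?_⟩
  · intro y hy hyo hyz
    by_contra hno
    push Not at hno
    have hyinv := hinv y hy hyo (fun s hs hs1 h => hno s hs (R.order_of_mem hG P hs hs1) h.symm)
    have hy2 : y * y = 1 := by rw [← pow_two, ← hyo, pow_orderOf_eq_one]
    have h1 : y * z ∈ (P : Subgroup G) := by
      refine R.self_cen hG P (fun s hs => ?_)
      have h2 := hyinv s⁻¹ (Subgroup.inv_mem _ hs)
      have h3 := hzinv s hs
      rw [inv_inv] at h2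
      have h4 : z * s = s⁻¹ * z := mul_inv_eq_iff_eq_mul.1 h3
      have h5 : y * s⁻¹ = s * y := mul_inv_eq_iff_eq_mul.1 h2
      calc y * z * s = y * (z * s) := by group
        _ = y * (s⁻¹ * z) := by rw [h4]
        _ = (y * s⁻¹) * z := by group
        _ = s * y * z := by rw [h5]
        _ = s * (y * z) := by group
    have h2 := hdisj _ (T.mul_mem hy hzT) h1
    apply hyz
    have h3 : y = z⁻¹ := eq_inv_of_mul_eq_one_left h2
    rw [h3]
    exact inv_eq_of_mul_eq_one_left hz2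
  · intro y hy hyo hyc
    by_contra hyz
    have hfix : ∃ x' ∈ (P : Subgroup G), orderOf x' = 3 ∧ x' * y = y * x' := by
      by_contra hno
      push Not at hno
      have hyinv := hinv y hy hyo (fun s hs hs1 h => hno s hs (R.order_of_mem hG P hs hs1) h.symm)
      have hy2 : y * y = 1 := by rw [← pow_two, ← hyo, pow_orderOf_eq_one]
      have h1 : y * z ∈ (P : Subgroup G) := by
        refine R.self_cen hG P (fun s hs => ?_)
        have h2 := hyinv s⁻¹ (Subgroup.inv_mem _ hs)
        have h3 := hzinv s hs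
        rw [inv_inv] at h2
        have h4 : z * s = s⁻¹ * z := mul_inv_eq_iff_eq_mul.1 h3
        have h5 : y * s⁻¹ = s * y := mul_inv_eq_iff_eq_mul.1 h2
        calc y * z * s = y * (z * s) := by group
          _ = y * (s⁻¹ * z) := by rw [h4]
          _ = (y * s⁻¹) * z := by group
          _ = s * y * z := by rw [h5]
          _ = s * (y * z) := by group
      have h2 := hdisj _ (T.mul_mem hy hzT) h1
      apply hyz
      have h3 : y = z⁻¹ := eq_inv_of_mul_eq_one_left h2
      rw [h3]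
      exact inv_eq_of_mul_eq_one_left hz2
    obtain ⟨x', hx'P, hx'o, hx'c⟩ := hfix
    have hx'1 : x' ≠ 1 := by
      rintro rfl
      simp at hx'o
    exact hcnf y hy hyo hyc x' hx'P hx'1 hx'c.symm

/-- **The hypotheses of the recognition theorem for `M₁₁`.** -/
theorem hyp (hG : Nat.card G = 7920) : Cfsg.Agent.Lib.M11Rec.Hyp G := by
  classical
  haveI : Fact (Nat.Prime 2) := ⟨Nat.prime_two⟩
  haveI : Fact (Nat.Prime 3) := ⟨Nat.prime_three⟩
  obtain ⟨P⟩ : Nonempty (Sylow 3 G) := inferInstance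
  obtain ⟨T, z, u, x, hT, hxP, hx, huT, huo, hux, hzT, hzo, hzc, hzinv, hfix, huniq⟩ := R.exists_T hG P
  have hPcard := card_sylow3 hG P
  have hz1 : z * z = 1 := by rw [← pow_two, ← hzo, pow_orderOf_eq_one]
  -- elements of `T`
  have key1 : ∀ y ∈ T, orderOf y = 2 → y ≠ z → Nat.card (centralizer ({y} : Set G)) = 48 := by
    intro y hy hyo hyz
    obtain ⟨x', hx'P, hx'o, hx'c⟩ := hfix y hy hyo hyz
    refine R.invol_cen hG hx'o hyo hx'c hPcard (fun s hs => sylow3_comm hG P hx'P hs) (z := z) (hzinv x' hx'P) ?_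
    rw [hzc y hy, mul_assoc, mul_inv_cancel, mul_one]
  have conjT : ∀ (K : Subgroup G), Nat.card K = 16 → ∃ g : G, ∀ a, a ∈ K ↔ g * a * g⁻¹ ∈ T := fun K hK => conj16 hG hK hT
  have key2 : ∀ y ∈ T, orderOf y = 2 → y ≠ z → IsConj y z := by
    intro y hy hyo hyz
    have h48 := key1 y hy hyo hyz
    obtain ⟨K, hK, hKC, hyK⟩ := exists16 (D := centralizer ({y} : Set G)) (by rw [h48]; norm_num)
      (Subgroup.mem_centralizer_singleton_iff.2 rfl) hyo
    obtain ⟨g, hg⟩ := conjT K hK
    have hy' : g * y * g⁻¹ ∈ T := (hg y).1 hyK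
    have hyo' : orderOf (g * y * g⁻¹) = 2 := by
      rw [← hyo]
      exact orderOf_injective (MulAut.conj g).toMonoidHom (MulAut.conj g).injective y
    have hcen : ∀ t ∈ T, (g * y * g⁻¹) * t = t * (g * y * g⁻¹) := by
      intro t ht
      have h1 : g⁻¹ * t * g ∈ K := by
        rw [hg]
        simpa [mul_assoc] using ht
      have h2 := Subgroup.mem_centralizer_singleton_iff.1 (hKC h1)
      calc (g * y * g⁻¹) * t = g * (y * (g⁻¹ * t * g)) * g⁻¹ := by group
        _ = g * ((g⁻¹ * t * g) * y) * g⁻¹ := by rw [h2]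
        _ = t * (g * y * g⁻¹) := by group
    have h3 := huniq _ hy' hyo' hcen
    rw [← h3]
    exact isConj_iff.2 ⟨g, rfl⟩
  have huz : u ≠ z := by
    rintro rfl
    have h1 := hzinv x hxP
    rw [hux, mul_assoc, mul_inv_cancel, mul_one] at h1
    have h2 : x ^ 2 = 1 := by
      rw [pow_two]
      nth_rewrite 2 [h1]
      group
    have h3 := orderOf_dvd_of_pow_eq_one h2
    rw [hx] at h3
    omega
  have hcz : Nat.card (centralizer ({z} : Set G)) = 48 := by
    obtain ⟨g, hg⟩ := isConj_iff.1 (key2 u huT huo huz)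
    rw [← hg, card_centralizer_conj']
    exact key1 u huT huo huz
  have key4 : ∀ w : G, orderOf w = 2 → IsConj w z := by
    intro w hw
    obtain ⟨K, hK, -, hwK⟩ := exists16 (D := ⊤) (by rw [Subgroup.card_top, hG]; norm_num) (Subgroup.mem_top w) hw
    obtain ⟨g, hg⟩ := conjT K hK
    have hw' := (hg w).1 hwK
    have hwo' : orderOf (g * w * g⁻¹) = 2 := by
      rw [← hw]
      exact orderOf_injective (MulAut.conj g).toMonoidHom (MulAut.conj g).injective w
    have hconj : IsConj w (g * w * g⁻¹) := isConj_iff.2 ⟨g, rfl⟩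
    by_cases h : g * w * g⁻¹ = z
    · rwa [h] at hconj
    · exact hconj.trans (key2 _ hw' hwo' h)
  have ord2 : ∀ t : G, t ^ 2 = 1 → t ≠ 1 → orderOf t = 2 := fun t h1 h2 => orderOf_eq_prime h1 h2
  refine ⟨hG, ?_, ?_, ?_, ?_, ?_, ?_, ?_, ?_⟩
  · have h1 := card_sylow_mul P
    rw [R.card_normalizer hG P, hG] at h1
    omega
  · intro Q y hy
    exact R.exp_three hG Q hy
  · intro Q y hy hy1
    exact (R.three_col hG (R.order_of_mem hG Q hy hy1)).1
  · intro Q g hg
    exact R.self_cen hG Q hg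
  · intro Q y hy y' hy' hy1 hy1'
    exact R.conj_of_three hG (R.order_of_mem hG Q hy hy1) (R.order_of_mem hG Q hy' hy1')
  · intro t t' h1 h2 h3 h4
    exact (key4 t (ord2 t h1 h2)).trans (key4 t' (ord2 t' h3 h4)).symm
  · intro t h1 h2
    obtain ⟨g, hg⟩ := isConj_iff.1 (key4 t (ord2 t h1 h2))
    rw [← card_centralizer_conj' g t, hg, hcz]
  · intro Q
    obtain ⟨T', z', u', x', hT', hxP', hx', huT', huo', hux', hzT', hzo', hzc', hzinv', -, -⟩ := R.exists_T hG Q
    refine ⟨z', ?_, ?_, hzinv'⟩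
    · rw [← hzo', pow_orderOf_eq_one]
    · rintro rfl
      simp at hzo'

end Rows

/-- **Simple groups of order 7920 satisfy the hypotheses of the recognition theorem.** -/
theorem hyp_of_card (hG : Nat.card G = 7920) : Cfsg.Agent.Lib.M11Rec.Hyp G := by
  obtain ⟨α, β, γ, κ, θ, θ', ν, μ, ξ, R⟩ := exists_rows hG
  exact R.hyp hG

end Cfsg.Agent.Lib.M11Ord
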